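import Mathlib
import Cfsg.Agent.H972.CS.Main

/-!
The crude form of the centraliser formula (engine C* of helper972, `H972/CS/Main`).

* `det_le` : `|det (θ - q)| ≤ (q + 1) ^ l` for a lattice endomorphism `θ` of finite order;
* `theta_period` : `θ = w` has finite order (untwisted groups);
* `val_le` : `val ≤ (q + 1) ^ l * (q ^ (2 * |Ψ+|) * |W|)`.
-/

set_option autoImplicit false
set_option linter.unusedSectionVars false

namespace Cfsg.Agent.H27.TS.Det

open CoxeterSystem Cfsg Cfsg.Lie Cfsg.Lie.ChevalleyDatum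
open Cfsg.Agent.ChevalleyStructure Cfsg.Agent.ChevalleyStructure.Elts Cfsg.Agent.ChevalleyStructure.CoxeterGeom
  Cfsg.Agent.ChevalleyStructure.CoxeterGeomTypes Cfsg.Agent.ChevalleyStructure.NPerm
open Cfsg.Agent.Tits.Roots Cfsg.Agent.Tits.Core Cfsg.Agent.Nodes Cfsg.Agent.Nodes.Reps Cfsg.Agent.Nodes.BNOf
  Cfsg.Agent.Nodes.RGDChev
open Cfsg.Agent.H129.TorusMain Cfsg.Agent.H972.CS.Torus Cfsg.Agent.H972.CS.Main

section Mat

open Matrix

/-- the eigenvalues of a matrix of finite order have norm `1` -/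
theorem norm_root {l N : ℕ} (hN : 0 < N) {A : Matrix (Fin l) (Fin l) ℂ} (hA : A ^ N = 1) {z : ℂ}
    (hz : A.charpoly.IsRoot z) : ‖z‖ = 1 := by
  have h1 : (Matrix.scalar (Fin l) z - A).det = 0 := by
    rw [← Matrix.eval_charpoly]
    exact hz
  obtain ⟨v, hv0, hv⟩ := Matrix.exists_mulVec_eq_zero_iff.2 h1
  have h2 : A *ᵥ v = z • v := by
    rw [Matrix.sub_mulVec, sub_eq_zero] at hv
    rw [← hv]
    ext i
    simp [Matrix.scalar_apply, Matrix.mulVec_diagonal]
  have h3 : ∀ n : ℕ, (A ^ n) *ᵥ v = z ^ n • v := by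
    intro n
    induction n with
    | zero => rw [pow_zero, pow_zero, Matrix.one_mulVec, one_smul]
    | succ n ih => rw [pow_succ, ← Matrix.mulVec_mulVec, h2, Matrix.mulVec_smul, ih, smul_smul, pow_succ, mul_comm]
  have h4 := h3 N
  rw [hA, Matrix.one_mulVec] at h4
  have h5 : z ^ N = 1 := by
    obtain ⟨i, hi⟩ := Function.ne_iff.1 hv0
    have h6 := congrFun h4 i
    rw [Pi.smul_apply, smul_eq_mul] at h6
    have hi' : v i ≠ 0 := hi
    exact mul_right_cancel₀ hi' (by rw [← h6, one_mul])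
  exact Complex.norm_eq_one_of_pow_eq_one h5 hN.ne'

theorem norm_det_le {l N : ℕ} (hN : 0 < N) {A : Matrix (Fin l) (Fin l) ℂ} (hA : A ^ N = 1) (q : ℕ) :
    ‖(Matrix.scalar (Fin l) (q : ℂ) - A).det‖ ≤ ((q : ℝ) + 1) ^ l := by
  rw [← Matrix.eval_charpoly]
  have hs : A.charpoly.Splits := IsAlgClosed.splits _
  rw [hs.eval_eq_prod_roots_of_monic A.charpoly_monic]
  have hc : Multiset.card A.charpoly.roots = l := by
    rw [← hs.natDegree_eq_card_roots, Matrix.charpoly_natDegree_eq_dim, Fintype.card_fin]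
  have key : ∀ S : Multiset ℂ, (∀ z ∈ S, ‖z‖ = 1) →
      ‖(S.map fun a => (q : ℂ) - a).prod‖ ≤ ((q : ℝ) + 1) ^ Multiset.card S := by
    intro S
    induction S using Multiset.induction_on with
    | empty => intro _; simp
    | cons a S ih =>
      intro h
      rw [Multiset.map_cons, Multiset.prod_cons, norm_mul, Multiset.card_cons, pow_succ, mul_comm]
      refine mul_le_mul (ih fun z hz => h z (Multiset.mem_cons_of_mem hz)) ?_ (norm_nonneg _) (by positivity)
      refine (norm_sub_le _ _).trans ?_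
      rw [h a (Multiset.mem_cons_self _ _)]
      simp
  have h1 := key A.charpoly.roots fun z hz => norm_root hN hA (Polynomial.isRoot_of_mem_roots hz)
  rwa [hc] at h1

end Mat

/-- **`|det (θ - q)| ≤ (q + 1) ^ l`** for a lattice endomorphism of finite order -/
theorem det_le {l : ℕ} (th : (Fin l → ℤ) →+ (Fin l → ℤ)) {N : ℕ} (hN : 0 < N) (h : ∀ x, th^[N] x = x) (q : ℕ) :
    (LinearMap.det (gq th q)).natAbs ≤ (q + 1) ^ l := by
  classical
  set B : Matrix (Fin l) (Fin l) ℤ := LinearMap.toMatrix' th.toIntLinearMap with hB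
  have hpow : ∀ n : ℕ, LinearMap.toMatrix' (th.toIntLinearMap ^ n) = B ^ n := by
    intro n
    induction n with
    | zero => rw [pow_zero, pow_zero]; exact LinearMap.toMatrix'_one
    | succ n ih => rw [pow_succ, pow_succ, LinearMap.toMatrix'_mul, ih]
  have hBN : B ^ N = 1 := by
    rw [← hpow]
    have h1 : th.toIntLinearMap ^ N = 1 := by
      refine LinearMap.ext fun x => ?_
      rw [Module.End.pow_apply]
      exact h x
    rw [h1]
    exact LinearMap.toMatrix'_one
  set A : Matrix (Fin l) (Fin l) ℂ := B.map (Int.castRingHom ℂ) with hA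
  have hAN : A ^ N = 1 := by
    rw [hA]
    have h1 := map_pow (Int.castRingHom ℂ).mapMatrix B N
    rw [hBN, map_one] at h1
    exact h1.symm
  have h1 := norm_det_le hN hAN q
  have h2 : LinearMap.det (gq th q) = (B - Matrix.scalar (Fin l) (q : ℤ)).det := by
    rw [← LinearMap.det_toMatrix']
    congr 1
    ext i j
    rw [LinearMap.toMatrix'_apply, Matrix.sub_apply, hB, LinearMap.toMatrix'_apply, gq_apply, Pi.sub_apply,
      Pi.smul_apply, smul_eq_mul, Matrix.scalar_apply, Matrix.diagonal_apply, Pi.single_apply]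
    by_cases hij : i = j
    · rw [if_pos hij, if_pos hij, mul_one]; rfl
    · rw [if_neg hij, if_neg hij, mul_zero]; rfl
  have h3 : (((LinearMap.det (gq th q)) : ℤ) : ℂ) = (A - Matrix.scalar (Fin l) (q : ℂ)).det := by
    rw [h2]
    have h4 := RingHom.map_det (Int.castRingHom ℂ) (B - Matrix.scalar (Fin l) (q : ℤ))
    rw [map_sub] at h4
    rw [← eq_intCast (Int.castRingHom ℂ), h4]
    congr 2
    ext i j
    simp
  have h5 : ‖(A - Matrix.scalar (Fin l) (q : ℂ)).det‖ = ‖(Matrix.scalar (Fin l) (q : ℂ) - A).det‖ := by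
    rw [← neg_sub, Matrix.det_neg, norm_mul, norm_pow, norm_neg, norm_one, one_pow, one_mul]
  have h6 : (((LinearMap.det (gq th q)).natAbs : ℕ) : ℝ) ≤ (((q + 1) ^ l : ℕ) : ℝ) := by
    have h7 : (((LinearMap.det (gq th q)).natAbs : ℕ) : ℝ) = ‖(((LinearMap.det (gq th q)) : ℤ) : ℂ)‖ := by
      rw [Complex.norm_intCast, Nat.cast_natAbs, Int.cast_abs]
    rw [h7, h3, h5]
    push_cast
    exact h1
  exact_mod_cast h6

section Val

variable {D : ChevalleyDatum} {l : ℕ} {M : CoxeterMatrix (Fin l)} (hp : IsType D l M) {W : Type*} [Group W]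
  (cs : CoxeterSystem M W)

include hp

/-- `θ = w` has finite order -/
theorem theta_period (w : W) : ∃ N, 0 < N ∧ ∀ x, (theta hp cs w (AddEquiv.refl _))^[N] x = x := by
  have := finite_W hp cs
  refine ⟨orderOf w, orderOf_pos w, fun x => ?_⟩
  have h1 : ∀ n : ℕ, (theta hp cs w (AddEquiv.refl _))^[n] x = rep cs hp.isCartan (w ^ n) x := by
    intro n
    induction n with
    | zero => simp
    | succ n ih => rw [Function.iterate_succ_apply', ih, theta_apply, pow_succ', rep_mul_apply]; rfl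
  rw [h1, pow_orderOf_eq_one, map_one]
  rfl

theorem finite_psi {s : ℕ} (f : (Fin l → ℤ) →+ ZMod s) : (psi cs hp.isCartan f).Finite := by
  have := finite_W hp cs
  exact (RGD.finite_roots (cs := cs) (h := hp.isCartan)).subset fun a ha => ha.1

theorem psiN_le {s : ℕ} (f : (Fin l → ℤ) →+ ZMod s) (v : W) :
    (psiN cs hp.isCartan f v).ncard ≤ (psi cs hp.isCartan f).ncard :=
  Set.ncard_le_ncard (fun _ ha => ⟨ha.1, ha.2.1, ha.2.2.1⟩) (finite_psi hp cs f)

/-- the crude value of the formula -/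
theorem val_le {q : ℕ} (hq : 0 < q) {s : ℕ} (f : (Fin l → ℤ) →+ ZMod s) (w : W) (Cw : Finset W) :
    val hp cs (AddEquiv.refl _) q f w Cw ≤ (q + 1) ^ l * (q ^ (2 * (psi cs hp.isCartan f).ncard) * Cw.card) := by
  unfold val
  obtain ⟨N, hN, h⟩ := theta_period hp cs w
  refine Nat.mul_le_mul (det_le _ hN h q) ?_
  rw [two_mul, pow_add, mul_assoc]
  refine Nat.mul_le_mul_left _ ?_
  rw [mul_comm, ← smul_eq_mul]
  refine Finset.sum_le_card_nsmul _ _ _ fun v _ => ?_
  exact Nat.pow_le_pow_right hq (psiN_le hp cs f v)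

end Val

end Cfsg.Agent.H27.TS.Det
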