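import Mathlib
import Cfsg.Agent.H943.E8Alc

/-!
Numbers of zero values of a functional `v : Fin 8 → ZMod N` on the roots of `E8`, `N` odd (S5745, centralizers in `E8(2)`).

* `count_zero` : `v ≠ 0` : at most `84` zeros, or `126` zeros (`v` proportional to a root);
* `count_zero_le` : `v ≠ 0` : at most `126` zeros;
* `count_zero_le'` : at most `84` zeros when the values are invariant under the multiplication by `a ≠ ± 1`.
-/

set_option autoImplicit false
set_option maxRecDepth 100000

namespace Cfsg.Agent.H27.TS.E8Cnt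

open Cfsg.Agent.ChevalleyStructure.CoxeterGeom Cfsg.Agent.Tits.Roots
  Cfsg.Agent.Nodes.RGDChev
open Cfsg.Lie Cfsg.Agent.ChevalleyStructure Cfsg.Agent.ChevalleyStructure.Elts
  Cfsg.Agent.ChevalleyStructure.RootVec Cfsg.Agent.ChevalleyStructure.RootVecTab
  Cfsg.Agent.ChevalleyStructure.NPerm Cfsg.Agent.ChevalleyStructure.CoxeterGeomTypes
open Cfsg.Agent.H944.RootVals Cfsg.Agent.H944.Kac Cfsg.Agent.H944.Tab Cfsg.Agent.H943.E8Tab

/-- `θ - r` -/
def dif (r : List ℕ) : List ℕ := List.zipWith (fun t x => t - x) th8 r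

theorem len_dif : ∀ r ∈ R8, (dif r).length ≤ 8 := by decide +kernel

theorem add_dif : ∀ r ∈ R8, ∀ i : Fin 8, r.getD i 0 + (dif r).getD i 0 = th8.getD i 0 := by decide +kernel

theorem dotN_add_dif {r : List ℕ} (hr : r ∈ R8) (Y : List ℕ) : dotN r Y + dotN (dif r) Y = dotN th8 Y := by
  rw [dotN_eq 8 r Y (len8 r hr), dotN_eq 8 (dif r) Y (len_dif r hr), dotN_eq 8 th8 Y (by decide),
    ← Finset.sum_add_distrib]
  refine Finset.sum_congr rfl fun i _ => ?_
  rw [← add_dif r hr i, add_mul]

/-- the truncation of a list -/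
def trn (Y : List ℕ) : List ℕ := Y.map fun y => if y = 0 then 0 else 1

theorem dotN_trn : ∀ r Y : List ℕ, dotN r Y = 0 ↔ dotN r (trn Y) = 0 := by
  intro r
  induction r with
  | nil => intro Y; rw [dotN_nil_left, dotN_nil_left]
  | cons a as ih =>
    intro Y
    cases Y with
    | nil => simp [trn, dotN]
    | cons b bs =>
      change a * b + dotN as bs = 0 ↔ a * (if b = 0 then 0 else 1) + dotN as (trn bs) = 0
      rw [Nat.add_eq_zero_iff, Nat.add_eq_zero_iff, ih bs]
      refine and_congr_left fun _ => ?_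
      by_cases hb : b = 0
      · simp [hb]
      · simp [hb]

/-- the number of positive roots vanishing on `z`, resp. equal to `θ` on `z` -/
def aN (z : List ℕ) : ℕ := (R8.filter fun r => dotN r z == 0).length

@[inherit_doc aN] def cN (z : List ℕ) : ℕ := (R8.filter fun r => dotN (dif r) z == 0).length

theorem check : allLt 2 8 (fun z => z == [0, 0, 0, 0, 0, 0, 0, 0] || z == [0, 0, 0, 0, 0, 0, 0, 1] ||
    z == [1, 0, 0, 0, 0, 0, 0, 0] || decide (aN z + cN z ≤ 42)) = true := by decide +kernel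

theorem filter_length_le {α : Type*} (L : List α) (p q : α → Bool) (h : ∀ x ∈ L, p x = true → q x = true) :
    (L.filter p).length ≤ (L.filter q).length := by
  induction L with
  | nil => simp
  | cons x L ih =>
    have h1 := ih fun y hy => h y (List.mem_cons_of_mem _ hy)
    have h2 := h x List.mem_cons_self
    by_cases hp : p x = true
    · rw [List.filter_cons_of_pos hp, List.filter_cons_of_pos (h2 hp)]
      simpa using h1
    · rw [List.filter_cons_of_neg hp]
      by_cases hq : q x = true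
      · rw [List.filter_cons_of_pos hq]
        exact h1.trans (by simp)
      · rw [List.filter_cons_of_neg hq]
        exact h1

theorem filter_length_or {α : Type*} (L : List α) (p q r : α → Bool)
    (h : ∀ x ∈ L, p x = true → q x = true ∨ r x = true) :
    (L.filter p).length ≤ (L.filter q).length + (L.filter r).length := by
  induction L with
  | nil => simp
  | cons x L ih =>
    have h1 := ih fun y hy => h y (List.mem_cons_of_mem _ hy)
    have h2 := h x List.mem_cons_self
    by_cases hp : p x = true <;> by_cases hq : q x = true <;> by_cases hr : r x = true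
    all_goals
      simp only [List.filter_cons, hp, hq, hr, if_true, List.length_cons] at h1 h2 ⊢
    all_goals first | (simp at h2; done) | (simp only [Bool.false_eq_true, if_false]; omega) | omega

theorem count_eq_filter {N : ℕ} (Y : List ℕ) (a : ZMod N) :
    (ms chevE8 8 (vecOf N Y)).count a = (R8.filter fun r => decide (((dotN r Y : ℕ) : ZMod N) = a)).length +
      (R8.filter fun r => decide (((dotN r Y : ℕ) : ZMod N) = -a)).length := by
  rw [count_eq_sum, sum_vecOf]
  generalize R8 = L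
  induction L with
  | nil => simp
  | cons r L ih =>
    rw [List.map_cons, List.sum_cons, ih, List.filter_cons, List.filter_cons]
    have h1 : (-((dotN r Y : ℕ) : ZMod N) = a) ↔ (((dotN r Y : ℕ) : ZMod N) = -a) := by
      constructor
      · intro h; rw [← h, _root_.neg_neg]
      · intro h; rw [h, _root_.neg_neg]
    simp only [h1, decide_eq_true_eq]
    split_ifs <;> (try simp only [List.length_cons]) <;> omega

theorem dot_last (Y : List ℕ) (hY : Y.length = 8) (hz : trn Y = [0, 0, 0, 0, 0, 0, 0, 1]) :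
    ∃ m, 0 < m ∧ Y = [0, 0, 0, 0, 0, 0, 0, m] := by
  match Y, hY, hz with
  | [a, b, c, d, e, f, g, m], _, hz =>
    simp only [trn, List.map_cons, List.map_nil, List.cons.injEq, and_true] at hz
    obtain ⟨h1, h2, h3, h4, h5, h6, h7, h8⟩ := hz
    have k : ∀ x : ℕ, (if x = 0 then 0 else 1) = 0 → x = 0 := fun x hx => by
      by_contra hc; rw [if_neg hc] at hx; omega
    refine ⟨m, ?_, by rw [k _ h1, k _ h2, k _ h3, k _ h4, k _ h5, k _ h6, k _ h7]⟩
    by_contra hc
    rw [if_pos (by omega)] at h8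
    omega

theorem dot_first (Y : List ℕ) (hY : Y.length = 8) (hz : trn Y = [1, 0, 0, 0, 0, 0, 0, 0]) :
    ∃ m, 0 < m ∧ Y = [m, 0, 0, 0, 0, 0, 0, 0] := by
  match Y, hY, hz with
  | [m, b, c, d, e, f, g, a], _, hz =>
    simp only [trn, List.map_cons, List.map_nil, List.cons.injEq, and_true] at hz
    obtain ⟨h8, h2, h3, h4, h5, h6, h7, h1⟩ := hz
    have k : ∀ x : ℕ, (if x = 0 then 0 else 1) = 0 → x = 0 := fun x hx => by
      by_contra hc; rw [if_neg hc] at hx; omega
    refine ⟨m, ?_, by rw [k _ h1, k _ h2, k _ h3, k _ h4, k _ h5, k _ h6, k _ h7]⟩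
    by_contra hc
    rw [if_pos (by omega)] at h8
    omega

theorem trn_zero (Y : List ℕ) (hY : Y.length = 8) (hz : trn Y = [0, 0, 0, 0, 0, 0, 0, 0]) :
    Y = [0, 0, 0, 0, 0, 0, 0, 0] := by
  match Y, hY, hz with
  | [m, b, c, d, e, f, g, a], _, hz =>
    simp only [trn, List.map_cons, List.map_nil, List.cons.injEq, and_true] at hz
    obtain ⟨h8, h2, h3, h4, h5, h6, h7, h1⟩ := hz
    have k : ∀ x : ℕ, (if x = 0 then 0 else 1) = 0 → x = 0 := fun x hx => by
      by_contra hc; rw [if_neg hc] at hx; omega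
    rw [k _ h1, k _ h2, k _ h3, k _ h4, k _ h5, k _ h6, k _ h7, k _ h8]

theorem vals_last : ∀ r ∈ R8, ∀ m : ℕ, dotN r [0, 0, 0, 0, 0, 0, 0, m] = r.getD 7 0 * m := by
  intro r hr m
  rw [dotN_eq 8 r _ (len8 r hr), Fin.sum_univ_eight]
  simp

theorem vals_first : ∀ r ∈ R8, ∀ m : ℕ, dotN r [m, 0, 0, 0, 0, 0, 0, 0] = r.getD 0 0 * m := by
  intro r hr m
  rw [dotN_eq 8 r _ (len8 r hr), Fin.sum_univ_eight]
  simp

theorem last_le : ∀ r ∈ R8, r.getD 7 0 ≤ 2 := by decide +kernel

theorem first_le : ∀ r ∈ R8, r.getD 0 0 ≤ 2 := by decide +kernel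

theorem n_last0 : (R8.filter fun r => r.getD 7 0 == 0).length = 63 := by decide +kernel

theorem n_last1 : (R8.filter fun r => r.getD 7 0 == 1).length = 56 := by decide +kernel

theorem n_last2 : (R8.filter fun r => r.getD 7 0 == 2).length = 1 := by decide +kernel

theorem n_first0 : (R8.filter fun r => r.getD 0 0 == 0).length = 42 := by decide +kernel

/-- **the zeros of a functional modulo an odd number** -/
theorem count_zero {N : ℕ} (hN : 1 < N) (ho : Odd N) {v : Fin 8 → ZMod N} (hv : v ≠ 0) :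
    (ms chevE8 8 v).count 0 ≤ 84 ∨ ((ms chevE8 8 v).count 0 = 126 ∧ ∃ m : ZMod N, m ≠ 0 ∧
      56 ≤ (ms chevE8 8 v).count m ∧
      ∀ b, b ≠ 0 → b ≠ m → b ≠ -m → (ms chevE8 8 v).count b ≤ 2) := by
  obtain ⟨Y, hYl, hYθ, hms, hY0⟩ := alcove8 (N := N) (by omega)
    (fun w => ms chevE8 8 w = ms chevE8 8 v ∧ w ≠ 0)
    (fun w j h => ⟨by rw [ms_srefl e8T, h.1], fun h0 => h.2 (srefl_eq_zero e8T h0)⟩) ⟨rfl, hv⟩
  have hNz : NeZero N := ⟨by omega⟩
  -- a value which vanishes is `0` or `N`
  have hval : ∀ r ∈ R8, ((dotN r Y : ℕ) : ZMod N) = 0 → dotN r Y = 0 ∨ dotN (dif r) Y = 0 ∧ dotN th8 Y = N := by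
    intro r hr h0
    have h1 : N ∣ dotN r Y := (ZMod.natCast_eq_zero_iff _ _).1 h0
    have h2 := dotN_add_dif hr Y
    obtain ⟨c, hc⟩ := h1
    rcases Nat.eq_zero_or_pos c with h3 | h3
    · left; rw [hc, h3, mul_zero]
    · right
      have h4 : N ≤ N * c := Nat.le_mul_of_pos_right N h3
      constructor <;> omega
  have hz0 : (ms chevE8 8 v).count 0 = 2 * (R8.filter fun r => decide (((dotN r Y : ℕ) : ZMod N) = 0)).length := by
    rw [← hms, count_eq_filter]
    simp only [neg_zero]
    omega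
  have htrn : trn Y = [0, 0, 0, 0, 0, 0, 0, 0] ∨ trn Y = [0, 0, 0, 0, 0, 0, 0, 1] ∨ trn Y = [1, 0, 0, 0, 0, 0, 0, 0] ∨
      aN (trn Y) + cN (trn Y) ≤ 42 := by
    have h1 := allLt_spec 2 8 _ check (trn Y) (by rw [trn, List.length_map, hYl]) (by
      intro x hx
      rw [trn, List.mem_map] at hx
      obtain ⟨y, -, rfl⟩ := hx
      split_ifs <;> omega)
    simp only [Bool.or_eq_true, beq_iff_eq, decide_eq_true_eq] at h1
    tauto
  rcases htrn with h1 | h1 | h1 | h1
  · exfalso
    refine hY0 ?_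
    rw [trn_zero Y hYl h1]
    funext i
    fin_cases i <;> simp [vecOf]
  · -- `E7`
    right
    obtain ⟨m, hm, rfl⟩ := dot_last Y hYl h1
    have hth : dotN th8 [0, 0, 0, 0, 0, 0, 0, m] = 2 * m := by simp [th8, dotN]
    have hmN : 2 * m < N := by
      rw [hth] at hYθ
      rcases hYθ.lt_or_eq with h2 | h2
      · exact h2
      · exfalso
        obtain ⟨k, hk⟩ := ho
        omega
    have hcast : ∀ k : ℕ, k < N → ((k : ℕ) : ZMod N) = 0 → k = 0 := fun k hk h0 =>
      Nat.eq_zero_of_dvd_of_lt ((ZMod.natCast_eq_zero_iff _ _).1 h0) hk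
    refine ⟨?_, (m : ZMod N), fun h0 => by have := hcast m (by omega) h0; omega, ?_, ?_⟩
    · rw [hz0]
      have h2 : (R8.filter fun r => decide (((dotN r [0, 0, 0, 0, 0, 0, 0, m] : ℕ) : ZMod N) = 0)).length = 63 := by
        rw [← n_last0]
        congr 1
        refine List.filter_congr fun r hr => ?_
        rw [vals_last r hr, Bool.eq_iff_iff, decide_eq_true_eq, beq_iff_eq]
        constructor
        · intro h3
          have h4 := last_le r hr
          have h5 := hcast _ (by nlinarith) h3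
          rcases Nat.mul_eq_zero.1 h5 with h6 | h6 <;> omega
        · intro h3; rw [h3]; simp
      rw [h2]
    · rw [← hms, count_eq_filter]
      refine le_add_right ?_
      rw [← n_last1]
      refine filter_length_le _ _ _ fun r hr h3 => ?_
      rw [beq_iff_eq] at h3
      rw [decide_eq_true_eq, vals_last r hr, h3, one_mul]
    · intro b hb0 hbm hbm'
      rw [← hms, count_eq_filter]
      have h3 : ∀ c : ZMod N, c ≠ 0 → c ≠ (m : ZMod N) →
          (R8.filter fun r => decide (((dotN r [0, 0, 0, 0, 0, 0, 0, m] : ℕ) : ZMod N) = c)).length ≤ 1 := by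
        intro c hc0 hcm
        rw [← n_last2]
        refine filter_length_le _ _ _ fun r hr h4 => ?_
        rw [decide_eq_true_eq, vals_last r hr] at h4
        rw [beq_iff_eq]
        have h5 := last_le r hr
        have h6 : r.getD 7 0 ≠ 0 := fun h7 => hc0 (by rw [← h4, h7]; simp)
        have h7 : r.getD 7 0 ≠ 1 := fun h7 => hcm (by rw [← h4, h7]; simp)
        omega
      have h4 := h3 b hb0 hbm
      have h5 := h3 (-b) (neg_ne_zero.2 hb0) (fun h6 => hbm' (by rw [← h6, _root_.neg_neg]))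
      omega
  · -- `D7`
    left
    obtain ⟨m, hm, rfl⟩ := dot_first Y hYl h1
    have hth : dotN th8 [m, 0, 0, 0, 0, 0, 0, 0] = 2 * m := by simp [th8, dotN]
    have hmN : 2 * m < N := by
      rw [hth] at hYθ
      rcases hYθ.lt_or_eq with h2 | h2
      · exact h2
      · exfalso
        obtain ⟨k, hk⟩ := ho
        omega
    rw [hz0]
    have h2 : (R8.filter fun r => decide (((dotN r [m, 0, 0, 0, 0, 0, 0, 0] : ℕ) : ZMod N) = 0)).length ≤ 42 := by
      rw [← n_first0]
      refine filter_length_le _ _ _ fun r hr h3 => ?_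
      rw [decide_eq_true_eq, vals_first r hr] at h3
      rw [beq_iff_eq]
      have h4 := first_le r hr
      have h5 : r.getD 0 0 * m = 0 := Nat.eq_zero_of_dvd_of_lt ((ZMod.natCast_eq_zero_iff _ _).1 h3) (by nlinarith)
      rcases Nat.mul_eq_zero.1 h5 with h6 | h6 <;> omega
    omega
  · left
    rw [hz0]
    have h2 : (R8.filter fun r => decide (((dotN r Y : ℕ) : ZMod N) = 0)).length ≤ aN (trn Y) + cN (trn Y) := by
      refine filter_length_or _ _ _ _ fun r hr h3 => ?_
      rw [decide_eq_true_eq] at h3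
      rcases hval r hr h3 with h4 | ⟨h4, -⟩
      · left; rw [beq_iff_eq]; exact (dotN_trn _ _).1 h4
      · right; rw [beq_iff_eq]; exact (dotN_trn _ _).1 h4
    omega

theorem count_zero_le {N : ℕ} (hN : 1 < N) (ho : Odd N) {v : Fin 8 → ZMod N} (hv : v ≠ 0) :
    (ms chevE8 8 v).count 0 ≤ 126 := by
  rcases count_zero hN ho hv with h1 | ⟨h1, -⟩ <;> omega

/-- at most `84` zeros when the values are invariant under the multiplication by `a ≠ ± 1` -/
theorem count_zero_le' {r : ℕ} (hr : r.Prime) (ho : Odd r) {v : Fin 8 → ZMod r} (hv : v ≠ 0) {a : ZMod r}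
    (ha0 : a ≠ 0) (ha1 : a ≠ 1) (ha2 : a ≠ -1) (hinv : ms chevE8 8 v = (ms chevE8 8 v).map (fun b => a * b)) :
    (ms chevE8 8 v).count 0 ≤ 84 := by
  have := Fact.mk hr
  rcases count_zero hr.one_lt ho hv with h1 | ⟨-, m, hm0, hm, hb⟩
  · exact h1
  · exfalso
    have h1 : (ms chevE8 8 v).count (a * m) = (ms chevE8 8 v).count m := by
      conv_lhs => rw [hinv]
      exact Multiset.count_map_eq_count' _ _ (mul_right_injective₀ ha0) _
    have h2 := hb (a * m) (mul_ne_zero ha0 hm0) (fun h3 => ha1 (mul_right_cancel₀ hm0 (by rw [h3, one_mul])))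
      (fun h3 => ha2 (mul_right_cancel₀ hm0 (by rw [h3]; ring)))
    omega

end Cfsg.Agent.H27.TS.E8Cnt
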