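import Cfsg.Agent.H27.TS.Det
import Cfsg.Agent.H27.TS.E8Cnt
import Cfsg.Agent.H795.Untw
import Cfsg.Agent.H134.Syl.CentX
import Cfsg.Agent.H742.EX.EPi
import Cfsg.Agent.S1065
import Cfsg.Agent.S1093

/-!
The classes of the elements of prime order `r ≥ 5` of `E8(2)` (S5745).

* `two_psi_le` : `2 |Ψ+| ≤` the number of the roots of value `0` (`ms D l v`, `v i = f α_i`);
* `ms_pair` : the root values are invariant under the multiplication by `q`;
* `bound_untw` : the formula of `H972/CS/Main` for the untwisted groups;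
* `card_le` : `|C(x)| ≤ 3 ^ 8 * (2 ^ 84 * |W(E8)|)`, `cG_ge` : `2 ^ 119 ≤ |x^G|`.
-/

set_option autoImplicit false
set_option linter.unusedSectionVars false
set_option maxRecDepth 100000

namespace Cfsg.Agent.H27.TS.E8Two

open CoxeterSystem Cfsg Cfsg.Lie Cfsg.Lie.ChevalleyDatum
open Cfsg.Agent.ChevalleyStructure Cfsg.Agent.ChevalleyStructure.Elts Cfsg.Agent.ChevalleyStructure.CoxeterGeom
  Cfsg.Agent.ChevalleyStructure.CoxeterGeomTypes Cfsg.Agent.ChevalleyStructure.NPerm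
open Cfsg.Agent.Tits.Roots Cfsg.Agent.Tits.Core Cfsg.Agent.Nodes Cfsg.Agent.Nodes.Reps Cfsg.Agent.Nodes.BNOf
  Cfsg.Agent.Nodes.RGDChev
open Cfsg.Agent.KFacts.RgdField Cfsg.Agent.KFacts.RgdChevCoord
open Cfsg.Agent.BpExc Cfsg.Agent.BpExc.TorCent Cfsg.Agent.BpExc.TorChev Cfsg.Agent.BpExc.Tow
  Cfsg.Agent.BpExc.TowChev Cfsg.Agent.GpExc.Field Cfsg.Agent.BpExc.LangFr
open Cfsg.Agent.H129.TorusMain Cfsg.Agent.H129.TorusChar Cfsg.Agent.H972.CS.Torus Cfsg.Agent.H972.CS.Main
open Cfsg.Agent.H944.RootVals Cfsg.Agent.H944.Kac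

universe u

section Link

variable {D : ChevalleyDatum} {l : ℕ} {M : CoxeterMatrix (Fin l)} (hp : IsType D l M) {W : Type*} [Group W]
  (cs : CoxeterSystem M W)

theorem rv_eq {s : ℕ} (f : (Fin l → ℤ) →+ ZMod s) (t : ℕ) : rv D l (fun i => f (sr i)) t = f (vec D l t) := by
  conv_rhs => rw [eq_sum_sr (vec D l t), map_sum]
  unfold rv
  refine Finset.sum_congr rfl fun i _ => ?_
  rw [map_zsmul, zsmul_eq_mul]

theorem count_ms {s : ℕ} [NeZero s] (f : (Fin l → ℤ) →+ ZMod s) (a : ZMod s) :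
    (ms D l fun i => f (sr i)).count a = (Finset.univ.filter fun t : Fin D.nroots => f (vec D l t) = a).card := by
  rw [ms_eq, Multiset.count_map, Finset.card_def, Finset.filter_val]
  congr 1
  refine Multiset.filter_congr fun t _ => ?_
  rw [rv_eq]
  exact eq_comm

include hp

theorem finite_zero {s : ℕ} (f : (Fin l → ℤ) →+ ZMod s) : {a | IsRoot cs hp.isCartan a ∧ f a = 0}.Finite := by
  have := finite_W hp cs
  exact (RGD.finite_roots (cs := cs) (h := hp.isCartan)).subset fun a ha => ha.1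

theorem ncard_zero_le {s : ℕ} [NeZero s] (f : (Fin l → ℤ) →+ ZMod s) :
    {a | IsRoot cs hp.isCartan a ∧ f a = 0}.ncard ≤ (ms D l fun i => f (sr i)).count 0 := by
  classical
  rw [count_ms]
  have h1 : {a | IsRoot cs hp.isCartan a ∧ f a = 0} ⊆
      ↑((Finset.univ.filter fun t : Fin D.nroots => f (vec D l t) = 0).image fun t : Fin D.nroots => vec D l t) := by
    rintro a ⟨ha, h0⟩
    obtain ⟨t, ht, rfl⟩ := (isRoot_iff hp cs a).1 ha
    rw [Finset.coe_image]
    exact ⟨⟨t, ht⟩, by simpa using h0, rfl⟩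
  refine (Set.ncard_le_ncard h1 (Finset.finite_toSet _)).trans ?_
  rw [Set.ncard_coe_finset]
  exact Finset.card_image_le

/-- twice the number of the positive roots killed by `f` -/
theorem two_psi_le {s : ℕ} [NeZero s] (f : (Fin l → ℤ) →+ ZMod s) :
    2 * (psi cs hp.isCartan f).ncard ≤ (ms D l fun i => f (sr i)).count 0 := by
  refine le_trans ?_ (ncard_zero_le hp cs f)
  have hfin := H27.TS.Det.finite_psi hp cs f
  have h1 : ((fun a => -a) '' psi cs hp.isCartan f).ncard = (psi cs hp.isCartan f).ncard :=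
    Set.ncard_image_of_injective _ neg_injective
  have h2 : Disjoint (psi cs hp.isCartan f) ((fun a => -a) '' psi cs hp.isCartan f) := by
    rw [Set.disjoint_left]
    rintro a ⟨ha, h0, -⟩ ⟨b, ⟨-, hb0, -⟩, rfl⟩
    have h3 : b = 0 := le_antisymm (neg_nonneg.1 h0) hb0
    exact ha.ne_zero (by rw [h3]; simp)
  rw [two_mul]
  conv_lhs => rw [← h1]
  rw [h1, ← h1]
  have h3 := Set.ncard_union_eq h2 hfin (hfin.image _)
  rw [h1] at h3 ⊢
  rw [← h3]
  refine Set.ncard_le_ncard ?_ (finite_zero hp cs f)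
  rintro a (⟨ha, -, h0⟩ | ⟨b, ⟨hb, -, h0⟩, rfl⟩)
  · exact ⟨ha, h0⟩
  · exact ⟨hb.neg, by rw [map_neg, h0, _root_.neg_zero]⟩

/-- the root values are invariant under the multiplication by `q` -/
theorem ms_pair {q s : ℕ} {f : (Fin l → ℤ) →+ ZMod s} {w : W} (h : Pair hp cs (AddEquiv.refl _) q s f w) :
    ms D l (fun i => f (sr i)) = (ms D l fun i => f (sr i)).map fun b => (q : ZMod s) * b := by
  classical
  have h1 : ∀ t : Fin D.nroots, ∃ t' : Fin D.nroots, vec D l t' = rep cs hp.isCartan w (vec D l t) := by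
    intro t
    obtain ⟨t', ht', e⟩ := (isRoot_iff hp cs _).1 ((isRoot_vec hp cs t.2).act w)
    exact ⟨⟨t', ht'⟩, e⟩
  choose π hπ using h1
  have hinj : Function.Injective π := by
    intro a b hab
    have h2 : rep cs hp.isCartan w (vec D l a) = rep cs hp.isCartan w (vec D l b) := by
      rw [← hπ, ← hπ, hab]
    have h3 := congrArg (rep cs hp.isCartan w⁻¹) h2
    rw [rep_inv_apply, rep_inv_apply] at h3
    exact Fin.ext (vec_inj hp a.2 b.2 h3)
  have hbij : Function.Bijective π := Finite.injective_iff_bijective.1 hinj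
  have h2 := Multiset.map_univ_val_equiv (Equiv.ofBijective π hbij)
  rw [ms_eq]
  conv_lhs => rw [← h2, Multiset.map_map]
  rw [Multiset.map_map]
  refine Multiset.map_congr rfl fun t _ => ?_
  simp only [Function.comp_apply, Equiv.ofBijective_apply]
  rw [rv_eq, rv_eq, hπ]
  have h4 := h.mul (vec D l t)
  rw [nsmul_eq_mul] at h4
  exact h4

end Link

section Bound

/-- the formula for `D.group F`, connection index `1` -/
theorem bound_untw {D : ChevalleyDatum} {l : ℕ} {M : CoxeterMatrix (Fin l)} (hp : IsType D l M) {r e : ℕ}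
    [Fact r.Prime] {F : Type u} [Field F] [Fintype F] [CharP F r] (he : 0 < e) (hq : Fintype.card F = r ^ e)
    {B : Fin l → Fin l → ℤ} (hB : InvC D l 1 B) {s : ℕ} (hs : s.Prime) (hsr : s ≠ r)
    {Rf : Set ((Fin l → ℤ) →+ ZMod s)} (hRf : Meets hp M.toCoxeterSystem Rf) {x : ↥(D.group F)}
    (hx : orderOf x = s) :
    ∃ f ∈ Rf, f ≠ 0 ∧ ∃ w : M.Group, Pair hp M.toCoxeterSystem (AddEquiv.refl _) (r ^ e) s f w ∧
      ∀ Cw : Finset M.Group, Cov hp M.toCoxeterSystem (AddEquiv.refl _) f w Cw →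
        Nat.card ↥(Subgroup.centralizer {x}) ≤ val hp M.toCoxeterSystem (AddEquiv.refl _) (r ^ e) f w Cw := by
  have hsp : Fact s.Prime := ⟨hs⟩
  set k := AlgebraicClosure F with hk
  have hkch : CharP k r := charP_of_injective_algebraMap (algebraMap F k).injective r
  have hlf : LocFin k := Cfsg.Agent.H134.Syl.CentX.locFin F r
  have hset := Cfsg.Agent.H795.Untw.setup_untw hp hlf (algebraMap F k) he hq hB one_ne_zero (Or.inl rfl) (p := s)
    (fun h => hs.one_lt.ne' (Nat.dvd_one.1 h))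
  have hxs : x ^ s = 1 := by rw [← hx]; exact pow_orderOf_eq_one x
  have hx1 : x ≠ 1 := by
    rintro rfl
    rw [orderOf_one] at hx
    exact hs.one_lt.ne hx
  obtain ⟨g, hg⟩ := Cfsg.Agent.H944.TorAnyChev.exists_conj_mem_TT hp r (hAlg_closure r F) hs.ne_zero
    ((Nat.coprime_primes hs Fact.out).2 hsr) (x := emb hp.inList (algebraMap F k) x) (by rw [← map_pow, hxs, map_one])
  exact bound_setup hlf hset hB one_ne_zero hs hsr hRf hxs hx1 (z := g⁻¹) (by rw [inv_inv]) hg

end Bound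

section EEight

open Cfsg.Agent.H943.E8Tab (e8T)

theorem two_ne {s : ℕ} (hs : s.Prime) (h5 : 5 ≤ s) :
    ((2 : ℕ) : ZMod s) ≠ 0 ∧ ((2 : ℕ) : ZMod s) ≠ 1 ∧ ((2 : ℕ) : ZMod s) ≠ -1 := by
  refine ⟨fun h => ?_, fun h => ?_, fun h => ?_⟩
  · have h1 := Nat.le_of_dvd (by norm_num) ((ZMod.natCast_eq_zero_iff _ _).1 h)
    omega
  · have h0 : ((1 : ℕ) : ZMod s) = 0 := by
      have h2 : ((2 : ℕ) : ZMod s) = ((1 : ℕ) : ZMod s) + 1 := by push_cast; norm_num
      rw [h2] at h
      simpa using h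
    have h1 := Nat.le_of_dvd (by norm_num) ((ZMod.natCast_eq_zero_iff _ _).1 h0)
    omega
  · have h0 : ((3 : ℕ) : ZMod s) = 0 := by
      have h2 : ((3 : ℕ) : ZMod s) = ((2 : ℕ) : ZMod s) + 1 := by push_cast; norm_num
      rw [h2, h]
      ring
    have h1 := Nat.le_of_dvd (by norm_num) ((ZMod.natCast_eq_zero_iff _ _).1 h0)
    omega

/-- `|Ψ+| ≤ 42` for `r ≥ 5` -/
theorem psi_le {s : ℕ} (hs : s.Prime) (h5 : 5 ≤ s) {f : (Fin 8 → ℤ) →+ ZMod s} (hf : f ≠ 0)
    {w : CoxeterMatrix.E₈.Group}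
    (h : Pair e8T CoxeterMatrix.E₈.toCoxeterSystem (AddEquiv.refl _) 2 s f w) :
    (psi CoxeterMatrix.E₈.toCoxeterSystem e8T.isCartan f).ncard ≤ 42 := by
  have : NeZero s := ⟨hs.ne_zero⟩
  have hv : (fun i => f (sr i)) ≠ (0 : Fin 8 → ZMod s) := by
    intro h0
    refine hf (AddMonoidHom.ext fun y => ?_)
    rw [eq_sum_sr y, map_sum]
    refine Finset.sum_eq_zero fun i _ => ?_
    rw [map_zsmul]
    have h1 : f (sr i) = 0 := congrFun h0 i
    rw [h1, smul_zero]
  obtain ⟨a0, a1, a2⟩ := two_ne hs h5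
  have h1 := Cfsg.Agent.H27.TS.E8Cnt.count_zero_le' hs (hs.odd_of_ne_two (by omega)) hv a0 a1 a2
    (ms_pair e8T CoxeterMatrix.E₈.toCoxeterSystem h)
  have h2 := two_psi_le e8T CoxeterMatrix.E₈.toCoxeterSystem f
  omega

variable {F : Type u} [Field F] [Finite F]

/-- **the centralisers of the elements of prime order `r ≥ 5` of `E8(2)`** -/
theorem card_le (hF : Nat.card F = 2) (x : ↥(chevE8.group F)) {s : ℕ} (hs : s.Prime) (h5 : 5 ≤ s)
    (hx : orderOf x = s) : Nat.card ↥(Subgroup.centralizer {x}) ≤ 3 ^ 8 * (2 ^ 84 * 696729600) := by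
  classical
  have : Fact (Nat.Prime 2) := ⟨Nat.prime_two⟩
  let _ : Fintype F := Fintype.ofFinite F
  have hF' : Fintype.card F = 2 ^ 1 := by rw [← Nat.card_eq_fintype_card, hF, pow_one]
  have hch : CharP F 2 := by
    obtain ⟨p, hp⟩ := CharP.exists F
    obtain ⟨n, hpp, hn⟩ := FiniteField.card F p
    rw [hF', pow_one] at hn
    have h3 : p ∣ 2 := by rw [hn]; exact dvd_pow_self p n.2.ne'
    have h4 : p = 2 := (Nat.prime_dvd_prime_iff_eq hpp Nat.prime_two).1 h3
    rwa [h4] at hp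
  have hW : Nat.card CoxeterMatrix.E₈.Group = 696729600 :=
    Cfsg.Agent.S1093.result (⟨8, CoxeterMatrix.E₈⟩, 696729600) (by simp)
  have hWf : Finite CoxeterMatrix.E₈.Group := Nat.finite_of_card_ne_zero (by rw [hW]; norm_num)
  let _ : Fintype CoxeterMatrix.E₈.Group := Fintype.ofFinite _
  obtain ⟨f, -, hf, w, hw, hC⟩ := bound_untw e8T (r := 2) (e := 1) one_pos hF' invC_E8 hs (by omega)
    (Rf := Set.univ) (fun _ => ⟨1, Set.mem_univ _⟩) hx
  rw [pow_one] at hw hC
  refine (hC Finset.univ fun _ _ _ => Finset.mem_univ _).trans ?_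
  refine (Cfsg.Agent.H27.TS.Det.val_le e8T CoxeterMatrix.E₈.toCoxeterSystem two_pos f w Finset.univ).trans ?_
  have h1 := psi_le hs h5 hf hw
  have h2 : (Finset.univ : Finset CoxeterMatrix.E₈.Group).card = 696729600 := by
    rw [Finset.card_univ, ← Nat.card_eq_fintype_card, hW]
  rw [h2]
  refine Nat.mul_le_mul (by norm_num) (Nat.mul_le_mul_right _ (Nat.pow_le_pow_right two_pos (by omega)))

/-- **the classes of the elements of prime order `r ≥ 5` of `E8(2)`** -/
theorem cG_ge (hF : Nat.card F = 2) (x : ↥(chevE8.group F)) {s : ℕ} (hs : s.Prime) (h5 : 5 ≤ s)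
    (hx : orderOf x = s) : 2 ^ 119 ≤ Cfsg.Agent.H742.EX.cG x := by
  let _ : Fintype F := Fintype.ofFinite F
  have hF' : Fintype.card F = 2 := by rw [← Nat.card_eq_fintype_card, hF]
  have h1 := Cfsg.Agent.H742.EX.card_G x
  have h2 : Nat.card {g : ↥(chevE8.group F) // g⁻¹ * x * g = x} ≤ 3 ^ 8 * (2 ^ 84 * 696729600) := by
    refine le_trans (le_of_eq ?_) (card_le hF x hs h5 hx)
    refine Nat.card_congr (Equiv.subtypeEquivRight fun g => ?_)
    rw [Subgroup.mem_centralizer_singleton_iff]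
    constructor
    · intro h
      have h3 : g * (g⁻¹ * x * g) = g * x := by rw [h]
      rw [← h3]; group
    · intro h
      rw [mul_assoc, ← h]; group
  rw [Cfsg.Agent.S1065.result hF'] at h1
  by_contra hc
  push Not at hc
  have h3 := Nat.mul_le_mul hc.le h2
  rw [← h1] at h3
  norm_num at h3

end EEight

end Cfsg.Agent.H27.TS.E8Two
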