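import Mathlib
import Cfsg.Agent.H27.TS.E8Cnt

/-!
`E8(2)` has no elements of order `143 = 11 * 13` (S5745, rows `A13 ^ 2`, `A14 ^ 2` in `E8(2)`).

The root values `v : Fin 8 → ZMod 143` of such an element are invariant under the multiplication by `2`. Modulo `11`
there are `20` roots of value `0`, modulo `13` there are `24` or `12`; the orbits of `2` on `ZMod 143` have length
`1, 10, 12, 60`.
-/

set_option autoImplicit false
set_option maxRecDepth 100000

namespace Cfsg.Agent.H27.TS.No143

open Cfsg.Agent.ChevalleyStructure.CoxeterGeom Cfsg.Agent.Tits.Roots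
  Cfsg.Agent.Nodes.RGDChev
open Cfsg.Lie Cfsg.Agent.ChevalleyStructure Cfsg.Agent.ChevalleyStructure.Elts
  Cfsg.Agent.ChevalleyStructure.RootVec Cfsg.Agent.ChevalleyStructure.RootVecTab
  Cfsg.Agent.ChevalleyStructure.NPerm Cfsg.Agent.ChevalleyStructure.CoxeterGeomTypes
open Cfsg.Agent.H944.RootVals Cfsg.Agent.H944.Kac Cfsg.Agent.H944.Tab Cfsg.Agent.H943.E8Tab
open Cfsg.Agent.H27.TS.E8Cnt

universe u

/-- the number of positive roots of value `0` -/
def zN (N : ℕ) (y : List ℕ) : ℕ := (R8.filter fun r => dotN r y % N == 0).length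

/-- the zeros of an invariant functional, by a check over the alcove points -/
theorem count_of_check {N : ℕ} (hN : 0 < N) {q : ℕ} (c : ℕ → Bool)
    (hchk : allAlc th8 N (fun y => y == [0, 0, 0, 0, 0, 0, 0, 0] || !invB N q R8 y || c (zN N y)) = true)
    {v : Fin 8 → ZMod N} (hv : v ≠ 0) (hinv : ms chevE8 8 v = (ms chevE8 8 v).map (fun a => (q : ZMod N) * a)) :
    ∃ k, c k = true ∧ (ms chevE8 8 v).count 0 = 2 * k := by
  obtain ⟨Y, hYl, hYθ, hms, hY0⟩ := alcove8 hN
    (fun w => ms chevE8 8 w = ms chevE8 8 v ∧ w ≠ 0)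
    (fun w j h => ⟨by rw [ms_srefl e8T, h.1], fun h0 => h.2 (srefl_eq_zero e8T h0)⟩) ⟨rfl, hv⟩
  have h1 := allAlc_spec th8 N _ (by decide) hchk Y hYl hYθ
  simp only [Bool.or_eq_true, beq_iff_eq, Bool.not_eq_true'] at h1
  have hi : invB N q R8 Y = true := by
    refine invB_of hN tab8 len8 ?_
    have h2 : (fun i : Fin 8 => ((Y.getD i 0 : ℕ) : ZMod N)) = vecOf N Y := rfl
    rw [h2, hms]
    exact hinv
  rcases h1 with (h1 | h1) | h1
  · exfalso
    refine hY0 ?_
    rw [h1]
    funext i
    fin_cases i <;> simp [vecOf]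
  · rw [hi] at h1
    exact absurd h1 (by simp)
  · refine ⟨zN N Y, h1, ?_⟩
    rw [← hms, count_eq_filter]
    have h2 : (R8.filter fun r => decide (((dotN r Y : ℕ) : ZMod N) = 0)) = R8.filter fun r => dotN r Y % N == 0 := by
      refine List.filter_congr fun r _ => ?_
      rw [Bool.eq_iff_iff, decide_eq_true_eq, beq_iff_eq, ZMod.natCast_eq_zero_iff, Nat.dvd_iff_mod_eq_zero]
    rw [_root_.neg_zero, h2, zN]
    omega

theorem check11 : allAlc th8 11 (fun y => y == [0, 0, 0, 0, 0, 0, 0, 0] || !invB 11 2 R8 y ||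
    (zN 11 y == 10)) = true := by decide +kernel

theorem check13 : allAlc th8 13 (fun y => y == [0, 0, 0, 0, 0, 0, 0, 0] || !invB 13 2 R8 y ||
    (zN 13 y == 12 || zN 13 y == 6)) = true := by decide +kernel

/-- the elements of a multiset with a property -/
theorem card_filter_eq {α : Type*} [Fintype α] [DecidableEq α] (S : Multiset α) (p : α → Prop) [DecidablePred p] :
    (S.filter p).card = ∑ a ∈ Finset.univ.filter p, S.count a := by
  induction S using Multiset.induction_on with
  | empty => simp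
  | cons b S ih =>
    have h1 : ∀ a, (b ::ₘ S).count a = S.count a + if a = b then 1 else 0 := fun a => by
      rw [Multiset.count_cons]
    simp only [h1]
    rw [Finset.sum_add_distrib, ← ih]
    by_cases hb : p b
    · rw [Multiset.filter_cons_of_pos _ hb, Multiset.card_cons, Finset.sum_ite_eq', if_pos (by simp [hb])]
    · rw [Multiset.filter_cons_of_neg _ hb, Finset.sum_ite_eq', if_neg (by simp [hb]), add_zero]

/-- no multiset of `240` such values -/
theorem no_ms {v : Fin 8 → ZMod 143} (hinv : ms chevE8 8 v = (ms chevE8 8 v).map (fun a => ((2 : ℕ) : ZMod 143) * a))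
    (h11 : (fun i => ZMod.castHom (show 11 ∣ 143 by norm_num) (ZMod 11) (v i)) ≠ 0)
    (h13 : (fun i => ZMod.castHom (show 13 ∣ 143 by norm_num) (ZMod 13) (v i)) ≠ 0) : False := by
  set f₁ := ZMod.castHom (show 11 ∣ 143 by norm_num) (ZMod 11) with hf₁
  set f₂ := ZMod.castHom (show 13 ∣ 143 by norm_num) (ZMod 13) with hf₂
  obtain ⟨k₁, hk₁, e₁⟩ := count_of_check (N := 11) (q := 2) (by norm_num) (fun k => k == 10) check11 h11 (inv_map f₁ hinv)
  obtain ⟨k₂, hk₂, e₂⟩ := count_of_check (N := 13) (q := 2) (by norm_num) (fun k => k == 12 || k == 6) check13 h13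
    (inv_map f₂ hinv)
  simp only [beq_iff_eq, Bool.or_eq_true] at hk₁ hk₂
  have hstep : ∀ a : ZMod 143, (ms chevE8 8 v).count (2 * a) = (ms chevE8 8 v).count a := by
    intro a
    conv_lhs => rw [hinv]
    have hinj : Function.Injective (fun a : ZMod 143 => ((2 : ℕ) : ZMod 143) * a) := by
      intro b c hbc
      have h1 : (72 : ZMod 143) * (((2 : ℕ) : ZMod 143) * b) = 72 * (((2 : ℕ) : ZMod 143) * c) := by
        simp only at hbc
        rw [hbc]
      have h2 : (72 : ZMod 143) * ((2 : ℕ) : ZMod 143) = 1 := by decide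
      rwa [← mul_assoc, ← mul_assoc, h2, one_mul, one_mul] at h1
    have h3 : (2 : ZMod 143) * a = ((2 : ℕ) : ZMod 143) * a := by norm_num
    rw [h3]
    exact Multiset.count_map_eq_count' _ _ hinj _
  have hpow : ∀ (i : ℕ) (a : ZMod 143), (ms chevE8 8 v).count (2 ^ i * a) = (ms chevE8 8 v).count a := by
    intro i
    induction i with
    | zero => intro a; rw [pow_zero, one_mul]
    | succ i ih => intro a; rw [pow_succ', mul_assoc, hstep, ih]
  have key : ∀ (m : ℕ) (f : ZMod 143 →+* ZMod m) (g : ZMod 143) (_ : DecidableEq (ZMod m)),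
      (∀ a : ZMod 143, f a = 0 → a = 0 ∨ ∃ i < 12, a = 2 ^ i * g) →
      (ms chevE8 8 (fun i => f (v i))).count 0 =
        (ms chevE8 8 v).count 0 + ((Finset.univ.filter fun a : ZMod 143 => f a = 0).card - 1) *
          (ms chevE8 8 v).count g := by
    intro m f g _ hfg
    have h1 : (ms chevE8 8 (fun i => f (v i))).count 0 = ((ms chevE8 8 v).filter fun a => f a = 0).card := by
      rw [ms_map, Multiset.count_map]
      congr 1
      refine Multiset.filter_congr fun a _ => ?_
      exact eq_comm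
    rw [h1, card_filter_eq, ← Finset.add_sum_erase _ _ (show (0 : ZMod 143) ∈
      Finset.univ.filter (fun a : ZMod 143 => f a = 0) by simp)]
    congr 1
    rw [Finset.sum_congr rfl (g := fun _ => (ms chevE8 8 v).count g), Finset.sum_const, smul_eq_mul,
      Finset.card_erase_of_mem (by simp)]
    intro a ha
    rw [Finset.mem_erase, Finset.mem_filter] at ha
    rcases hfg a ha.2.2 with h2 | ⟨i, -, rfl⟩
    · exact absurd h2 ha.1
    · exact hpow i g
  have g₁ := key 11 f₁ 11 inferInstance (by rw [hf₁]; decide +kernel)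
  have g₂ := key 13 f₂ 13 inferInstance (by rw [hf₂]; decide +kernel)
  have c₁ : (Finset.univ.filter fun a : ZMod 143 => f₁ a = 0).card = 13 := by rw [hf₁]; decide +kernel
  have c₂ : (Finset.univ.filter fun a : ZMod 143 => f₂ a = 0).card = 11 := by rw [hf₂]; decide +kernel
  rw [c₁] at g₁
  rw [c₂] at g₂
  rw [e₁] at g₁
  rw [e₂] at g₂
  omega

/-- **`E8(2)` has no elements of order `143`.** -/
theorem no143 {F : Type u} [Field F] [Finite F] (hF : Nat.card F = 2) (x : ↥(chevE8.group F)) : orderOf x ≠ 143 := by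
  intro hx
  have : Fact (Nat.Prime 2) := ⟨Nat.prime_two⟩
  have hch : CharP F 2 := by
    have h1 : Fintype F := Fintype.ofFinite F
    have h2 : Fintype.card F = 2 := by rw [← Nat.card_eq_fintype_card]; exact hF
    obtain ⟨p, hp⟩ := CharP.exists F
    obtain ⟨n, hpp, hn⟩ := FiniteField.card F p
    rw [h2] at hn
    have h3 : p ∣ 2 := by rw [hn]; exact dvd_pow_self p n.2.ne'
    have h4 : p = 2 := (Nat.prime_dvd_prime_iff_eq hpp Nat.prime_two).1 h3
    rwa [h4] at hp
  obtain ⟨v, hv⟩ := exists_vals (D := chevE8) (l := 8) e8T 2 (x := x) (N := 143) (by norm_num) (by norm_num)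
    (by rw [← hx]; exact pow_orderOf_eq_one x)
  have hfrob := hv.frob
  rw [hF] at hfrob
  have hlift : ∀ (m k : ℕ) (hm : m ∣ 143) (_ : m * k = 143) (_ : k < 143) (_ : 0 < k),
      (fun i => ZMod.castHom hm (ZMod m) (v i)) ≠ 0 := by
    intro m k hm hmk hk hk0 h0
    have h1 : x ^ k = 1 := by
      rw [← hv.ord k]
      intro i
      have h2 : ZMod.castHom hm (ZMod m) (v i) = 0 := congrFun h0 i
      have h3 : ((v i).val : ZMod m) = 0 := by
        rw [ZMod.castHom_apply] at h2
        rw [← h2, ZMod.cast_eq_val]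
      rw [ZMod.natCast_eq_zero_iff] at h3
      obtain ⟨c, hc⟩ := h3
      have h4 : v i = (((v i).val : ℕ) : ZMod 143) := (ZMod.natCast_zmod_val _).symm
      rw [h4, hc, ← Nat.cast_mul, ZMod.natCast_eq_zero_iff, ← mul_assoc, mul_comm k m, hmk]
      exact dvd_mul_right _ _
    have h5 := orderOf_dvd_of_pow_eq_one h1
    rw [hx] at h5
    exact absurd (Nat.le_of_dvd hk0 h5) (by omega)
  exact no_ms hfrob (hlift 11 13 _ (by norm_num) (by norm_num) (by norm_num))
    (hlift 13 11 _ (by norm_num) (by norm_num) (by norm_num))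

end Cfsg.Agent.H27.TS.No143
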